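import Groth.Agent.S10103
import Groth.Agent.AlgSpThick.Scheme
import Groth.Agent.AlgSp2.SelfPullbackField
import Groth.Agent.AlgSp2.AffineRows
import Groth.Agent.AlgSp2.FppfProps
import Groth.Agent.AlgSpBasic.Quotient
import Groth.Agent.AlgSpBasic.OpenSub
import Groth.Agent.AlgSpFppf.QuotSpace
import Groth.Agent.AlgStBasic.LocQDescend
import Groth.Agent.ArtinAtlas.BGSmooth
import Groth.Prelude.Def_Grpd
import Groth.Prelude.Def_MoreMor
import Mathlib

/-!
Quotients of flat equivalence relations of schemes descend along saturated thickenings.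
-/

set_option autoImplicit false
set_option linter.style.haveILetI false
set_option backward.isDefEq.respectTransparency false
set_option backward.isDefEq.respectTransparency.types false
universe u

open CategoryTheory CategoryTheory.Limits AlgebraicGeometry Opposite AlgSp
open Groth.AlgSpBasic

namespace Groth.GrpQuotThick

variable {S : Scheme.{u}} (G : Grpd.GroupoidScheme S)

theorem isEqvRel [Mono G.j] :
    IsEqvRel (Over.homMk G.s G.s_over : Over.mk G.pR ⟶ Over.mk G.pU)
      (Over.homMk G.t G.t_over : Over.mk G.pR ⟶ Over.mk G.pU) := by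
  refine ⟨fun T r r' h₁ h₂ => ?_, fun T => ⟨fun a => ?_, ?_, ?_⟩⟩
  · have h₁' : r.left ≫ G.t = r'.left ≫ G.t := congrArg CommaMorphism.left h₁
    have h₂' : r.left ≫ G.s = r'.left ≫ G.s := congrArg CommaMorphism.left h₂
    refine Over.OverMorphism.ext ((cancel_mono G.j).1 (pullback.hom_ext ?_ ?_))
    · simpa [Grpd.GroupoidScheme.j] using h₁'
    · simpa [Grpd.GroupoidScheme.j] using h₂'
  · refine ⟨a ≫ Over.homMk G.e ?_, Over.OverMorphism.ext ?_, Over.OverMorphism.ext ?_⟩
    · show G.e ≫ G.pR = G.pU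
      rw [← G.s_over, ← Category.assoc, G.e_s, Category.id_comp]
    · show (a.left ≫ G.e) ≫ G.t = a.left
      exact (Category.assoc _ _ _).trans ((congrArg (a.left ≫ ·) G.e_t).trans (Category.comp_id _))
    · show (a.left ≫ G.e) ≫ G.s = a.left
      exact (Category.assoc _ _ _).trans ((congrArg (a.left ≫ ·) G.e_s).trans (Category.comp_id _))
  · rintro a b ⟨r, h₁, h₂⟩
    refine ⟨r ≫ Over.homMk G.i ?_, Over.OverMorphism.ext ?_, Over.OverMorphism.ext ?_⟩
    · show G.i ≫ G.pR = G.pR
      conv_lhs => rw [← G.s_over, ← Category.assoc, G.i_s, G.t_over]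
    · show (r.left ≫ G.i) ≫ G.t = b.left
      rw [Category.assoc, G.i_t]
      exact congrArg CommaMorphism.left h₂
    · show (r.left ≫ G.i) ≫ G.s = a.left
      rw [Category.assoc, G.i_s]
      exact congrArg CommaMorphism.left h₁
  · rintro a b c ⟨r₁, h₁, h₂⟩ ⟨r₂, h₃, h₄⟩
    have h : r₁.left ≫ G.s = r₂.left ≫ G.t :=
      (congrArg CommaMorphism.left h₂).trans (congrArg CommaMorphism.left h₃).symm
    refine ⟨Over.homMk (pullback.lift r₁.left r₂.left h ≫ G.c) ?_, Over.OverMorphism.ext ?_, Over.OverMorphism.ext ?_⟩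
    · show (pullback.lift r₁.left r₂.left h ≫ G.c) ≫ G.pR = T.hom
      refine (congrArg (_ ≫ ·) G.s_over.symm).trans ((Category.assoc _ _ _).symm.trans ?_)
      refine (congrArg (· ≫ G.pU) (G.comp_s r₁.left r₂.left h)).trans ((Category.assoc _ _ _).trans ?_)
      exact (congrArg (r₂.left ≫ ·) G.s_over).trans (Over.w r₂)
    · exact (G.comp_t r₁.left r₂.left h).trans (congrArg CommaMorphism.left h₁)
    · exact (G.comp_s r₁.left r₂.left h).trans (congrArg CommaMorphism.left h₄)

set_option maxHeartbeats 1000000 in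
/-- The quotient of a flat equivalence relation exists as soon as it exists on a saturated thickening. -/
theorem exists_quotient [Mono G.j] [Flat G.s] [LocallyOfFinitePresentation G.s] [Flat G.t]
    [LocallyOfFinitePresentation G.t] (U₀ : Scheme.{u}) (c₀ : U₀ ⟶ G.U) (hc : MoreMor.IsThickening c₀)
    (ψ : pullback G.s c₀ ≅ pullback G.t c₀) (hψ : ψ.hom ≫ pullback.fst G.t c₀ = pullback.fst G.s c₀)
    (Y₀ : Scheme.{u}) (p₀ : U₀ ⟶ Y₀) [Surjective p₀] [Flat p₀] [LocallyOfFinitePresentation p₀]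
    (sq₀ : IsPullback (ψ.hom ≫ pullback.snd G.t c₀) (pullback.snd G.s c₀) p₀ p₀) :
    ∃ (Y : Scheme.{u}) (p : G.U ⟶ Y), Surjective p ∧ Flat p ∧ LocallyOfFinitePresentation p ∧
      IsPullback G.t G.s p p := by
  haveI : IsClosedImmersion c₀ := hc.1
  let Uo : Over S := Over.mk G.pU
  let Ro : Over S := Over.mk G.pR
  let so : Ro ⟶ Uo := Over.homMk G.s G.s_over
  let to' : Ro ⟶ Uo := Over.homMk G.t G.t_over
  haveI : Flat so.left := ‹Flat G.s›
  haveI : LocallyOfFinitePresentation so.left := ‹LocallyOfFinitePresentation G.s›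
  haveI : Flat to'.left := ‹Flat G.t›
  haveI : LocallyOfFinitePresentation to'.left := ‹LocallyOfFinitePresentation G.t›
  have hrel : IsEqvRel so to' := isEqvRel G
  have hF : IsAlgSpace (QuotSh.quot Scheme.fppfPrecoverage so to') := Groth.Agent.S10103.result S so to' hrel
  have sqπ : IsPullback ((yon S).map to') ((yon S).map so) (yonQuotπ so to') (yonQuotπ so to') := isPullback_yonQuot hrel
  -- the quotient map is an fppf covering
  haveI := isLocallySurjective_yonQuotπ so to'
  have hp := Groth.AlgSpFppf.repBySpWith_quotient (π := yonQuotπ so to') (IsAlgSpace.yon_obj Ro) (IsAlgSpace.yon_obj Uo)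
    (Groth.AlgSpFppf.isEqvRelSp_yon hrel)
    (locP_of_repWith ((repWith_yon_map_iff _ so).2 (inferInstance : Flat so.left)))
    (locP_of_repWith ((repWith_yon_map_iff _ so).2 (inferInstance : LocallyOfFinitePresentation so.left))) sqπ
  have hπs : IsSurjectiveMor (yonQuotπ so to') := Groth.AlgSpFppf.isSurjectiveMor_of_repBySpWith (inf_le_left.trans inf_le_left) hp
  have hπf : LocP @Flat (yonQuotπ so to') :=
    Groth.AlgSpFppf.locP_of_repBySpWith @Flat (inf_le_left.trans inf_le_right) (IsAlgSpace.yon_obj Uo) hF hp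
  have hπp : LocP @LocallyOfFinitePresentation (yonQuotπ so to') :=
    Groth.AlgSpFppf.locP_of_repBySpWith @LocallyOfFinitePresentation inf_le_right (IsAlgSpace.yon_obj Uo) hF hp
  have hcov : IsFppfCover (fun _ : PUnit.{u + 1} => (yon S).obj Uo) (fun _ => yonQuotπ so to') :=
    ⟨fun _ => ⟨hπf, hπp⟩, fun x => ⟨PUnit.unit, hπs x⟩⟩
  generalize yonQuotπ so to' = π at *
  -- the base of the small quotient
  have hcond : ∀ {Z : Scheme.{u}} (g₁ g₂ : Z ⟶ U₀), g₁ ≫ p₀ = g₂ ≫ p₀ →
      ∃ r : Z ⟶ G.R, r ≫ G.t = g₁ ≫ c₀ ∧ r ≫ G.s = g₂ ≫ c₀ := fun {Z} g₁ g₂ h => by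
    refine ⟨sq₀.lift g₁ g₂ h ≫ pullback.fst G.s c₀, ?_, ?_⟩
    · rw [Category.assoc, ← hψ, Category.assoc, pullback.condition, ← Category.assoc ψ.hom,
        ← Category.assoc (sq₀.lift g₁ g₂ h), sq₀.lift_fst]
    · rw [Category.assoc, pullback.condition, ← Category.assoc, sq₀.lift_snd]
  let qY : Y₀ ⟶ S := EffectiveEpi.desc p₀ (c₀ ≫ G.pU) fun g₁ g₂ h => by
    obtain ⟨r, h₁, h₂⟩ := hcond g₁ g₂ h
    rw [← Category.assoc, ← h₁, ← Category.assoc g₂, ← h₂, Category.assoc, Category.assoc, G.t_over, G.s_over]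
  have hqY : p₀ ≫ qY = c₀ ≫ G.pU := EffectiveEpi.fac p₀ _ _
  let U₀o : Over S := Over.mk (c₀ ≫ G.pU)
  let Y₀o : Over S := Over.mk qY
  let co : U₀o ⟶ Uo := Over.homMk c₀ rfl
  let po : U₀o ⟶ Y₀o := Over.homMk p₀ hqY
  haveI : Flat po.left := ‹Flat p₀›
  haveI : Surjective po.left := ‹Surjective p₀›
  haveI : LocallyOfFinitePresentation po.left := ‹LocallyOfFinitePresentation p₀›
  haveI : Mono co.left := inferInstanceAs (Mono c₀)
  haveI : Mono co := (Over.forget S).mono_of_mono_map ‹Mono co.left›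
  obtain ⟨k, hk⟩ := Groth.AlgSp2.exists_desc_of_cover po ((yon S).map co ≫ π) fun Z g₁ g₂ h => by
    obtain ⟨r, h₁, h₂⟩ := hcond g₁.left g₂.left (congrArg CommaMorphism.left h)
    let ro : Z ⟶ Ro := Over.homMk r (by
      show r ≫ G.pR = Z.hom
      rw [← G.t_over, ← Category.assoc, h₁, Category.assoc]
      exact Over.w g₁)
    have e₁ : g₁ ≫ co = ro ≫ to' := Over.OverMorphism.ext h₁.symm
    have e₂ : g₂ ≫ co = ro ≫ so := Over.OverMorphism.ext h₂.symm
    rw [← Category.assoc, ← Functor.map_comp, ← Category.assoc, ← Functor.map_comp, e₁, e₂, Functor.map_comp,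
      Functor.map_comp, Category.assoc, Category.assoc, sqπ.w]
  -- the square over the quotient
  have sq : IsPullback ((yon S).map co) ((yon S).map po) π k := by
    refine isPullback_of_lifts hk.symm (fun T b d hbd => ?_) fun T a a' h₁ _ => (cancel_mono ((yon S).map co)).1 h₁
    obtain ⟨a, rfl⟩ := (yon S).map_surjective b
    obtain ⟨y, rfl⟩ := (yon S).map_surjective d
    let T' : Over S := Over.mk (pullback.fst y.left p₀ ≫ T.hom)
    let pr : T' ⟶ T := Over.homMk (pullback.fst y.left p₀) rfl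
    let b : T' ⟶ U₀o := Over.homMk (pullback.snd y.left p₀) (by
      show pullback.snd y.left p₀ ≫ c₀ ≫ G.pU = pullback.fst y.left p₀ ≫ T.hom
      rw [← hqY, ← Category.assoc, ← pullback.condition, Category.assoc]
      exact congrArg (_ ≫ ·) (Over.w y))
    have hby : pr ≫ y = b ≫ po := Over.OverMorphism.ext pullback.condition
    have e : (yon S).map (pr ≫ a) ≫ π = (yon S).map (b ≫ co) ≫ π := by
      rw [Functor.map_comp, Category.assoc, hbd, ← Functor.map_comp_assoc, hby, Functor.map_comp_assoc, hk,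
        ← Functor.map_comp_assoc]
    obtain ⟨r, hr⟩ := (yon S).map_surjective (sqπ.lift _ _ e)
    have hrt : r.left ≫ G.t = pullback.fst y.left p₀ ≫ a.left :=
      congrArg CommaMorphism.left ((yon S).map_injective (by rw [Functor.map_comp, hr, sqπ.lift_fst]) : r ≫ to' = pr ≫ a)
    have hrs : r.left ≫ G.s = pullback.snd y.left p₀ ≫ c₀ :=
      congrArg CommaMorphism.left ((yon S).map_injective (by rw [Functor.map_comp, hr, sqπ.lift_snd]) : r ≫ so = b ≫ co)
    let ρ : pullback y.left p₀ ⟶ pullback G.s c₀ := pullback.lift r.left (pullback.snd y.left p₀) hrs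
    obtain ⟨b', hb', hb'p⟩ : ∃ b' : pullback y.left p₀ ⟶ U₀, b' ≫ c₀ = pullback.fst y.left p₀ ≫ a.left ∧
        b' ≫ p₀ = pullback.fst y.left p₀ ≫ y.left := by
      refine ⟨(ρ ≫ ψ.hom) ≫ pullback.snd G.t c₀, ?_, ?_⟩
      · rw [← hrt, Category.assoc, ← pullback.condition, Category.assoc, ← Category.assoc ψ.hom, hψ, ← Category.assoc,
          pullback.lift_fst]
      · rw [Category.assoc ρ, Category.assoc, sq₀.w, ← Category.assoc, pullback.lift_snd, pullback.condition]
    let b₀ : T.left ⟶ U₀ := EffectiveEpi.desc (pullback.fst y.left p₀) b' fun g₁ g₂ h => by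
      rw [← cancel_mono c₀, Category.assoc, Category.assoc, hb', ← Category.assoc, h, Category.assoc]
    have hb₀ : pullback.fst y.left p₀ ≫ b₀ = b' := EffectiveEpi.fac _ _ _
    have hb₀c : b₀ ≫ c₀ = a.left := by
      rw [← cancel_epi (pullback.fst y.left p₀), ← Category.assoc, hb₀, hb']
    let a₀ : T ⟶ U₀o := Over.homMk b₀ (by
      show b₀ ≫ c₀ ≫ G.pU = T.hom
      rw [← Category.assoc, hb₀c]
      exact Over.w a)
    refine ⟨(yon S).map a₀, by rw [← Functor.map_comp]; exact congrArg _ (Over.OverMorphism.ext hb₀c), ?_⟩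
    rw [← Functor.map_comp]
    refine congrArg _ (Over.OverMorphism.ext ?_)
    show b₀ ≫ p₀ = y.left
    rw [← cancel_epi (pullback.fst y.left p₀), ← Category.assoc, hb₀, hb'p]
  have hk' : IsThickMor k :=
    ((Groth.AlgSp2.isLocalOnBase_fpqc_repWith_affine (@IsClosedImmersion ⊓ @Surjective : MorphismProperty Scheme.{u})
      (fun _ _ f h => have : IsClosedImmersion f := h.1; inferInstance)) _ _ hF (fun _ => IsAlgSpace.yon_obj Uo)
      (Groth.AlgSp2.isFpqcCover_of_isFppfCover hF (fun _ => IsAlgSpace.yon_obj Uo) hcov) k (IsAlgSpace.yon_obj Y₀o)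
      (fun _ => (yon S).obj U₀o) (fun _ => (yon S).map co) (fun _ => (yon S).map po)
      (fun _ => IsAlgSpace.yon_obj U₀o) (fun _ => sq.flip)).2 fun _ =>
        (repWith_yon_map_iff _ co).2 (hc : (@IsClosedImmersion ⊓ @Surjective : MorphismProperty Scheme.{u}) c₀)
  obtain ⟨Y, ⟨e⟩⟩ := Groth.AlgSpThick.exists_iso_yon_of_thick hF hk'
  obtain ⟨p, hp'⟩ := (yon S).map_surjective (π ≫ e.inv)
  refine ⟨Y.left, p.left, ?_, ?_, ?_, ?_⟩
  · refine Groth.AlgStBasic.surjective_left_of_yon ?_
    rw [hp']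
    exact (MorphismProperty.cancel_right_of_respectsIso (IsSurjectiveMor (S := S)) _ _).2 hπs
  · have : LocP @Flat ((yon S).map p) := by
      rw [hp']
      exact (MorphismProperty.cancel_right_of_respectsIso (LocP (S := S) @Flat) _ _).2 hπf
    exact this (𝟙 _) (𝟙 _) p (repWith_id _ _) (repWith_id _ _) (by simp)
  · have : LocP @LocallyOfFinitePresentation ((yon S).map p) := by
      rw [hp']
      exact (MorphismProperty.cancel_right_of_respectsIso (LocP (S := S) @LocallyOfFinitePresentation) _ _).2 hπp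
    exact this (𝟙 _) (𝟙 _) p (repWith_id _ _) (repWith_id _ _) (by simp)
  · have h : IsPullback ((yon S).map to') ((yon S).map so) ((yon S).map p) ((yon S).map p) := by
      rw [hp']
      exact sqπ.of_iso (Iso.refl _) (Iso.refl _) (Iso.refl _) e.symm (by simp) (by simp) (by simp) (by simp)
    exact isPullback_left (isPullback_of_yon h)

end Groth.GrpQuotThick
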